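import Mathlib
import Cfsg.Prelude.Def_Blocks
import Cfsg.Prelude.Def_CharExt
import Cfsg.Agent.Lib.H21.AD.Defs
import Cfsg.Agent.Lib.H28.NT.Defs

/-!
# S4551 (Alperin-Dade for `p'`-index, principal blocks): common definitions (helper21)

Style of `H21.AD.Defs` / `H28.NT.Defs`: functions `G → ℂ`, subgroups of `G`,
`sSum p J f` = sum of `f` over the `p`-regular elements of `J`.
Blueprint: `tools/blueprints/S4551.md`, exact signatures: `tools/blueprints/S4551_sigs.lean`.
-/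

set_option autoImplicit false

namespace Cfsg.Agent.Lib.H21.AP

open Cfsg.Agent.Lib.H21.AD Cfsg.Agent.Lib.H28.NT

variable {G : Type*} [Group G]

/-- the standing hypotheses: `H28.NT.Hyp` without `hdeg`, `hdet` -/
structure HypA (p : ℕ) (M : Ideal Cfsg.AlgInt) (N Q : Subgroup G) (θ : G → ℂ) : Prop where
  hp : p.Prime
  hM : Cfsg.IsPModular p M
  hQN : Q ≤ N
  hQ : ¬ p ∣ Q.relIndex N
  hcov : ∀ J : Subgroup G, N ≤ J → ¬ p ∣ N.relIndex J → ∀ g ∈ J,
    ∃ n ∈ N, ∃ z ∈ Subgroup.centralizer (Q : Set G), g = n * z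
  hirr : Cfsg.IsIrrCharacter N (fun n : N => θ n)
  hinv : ∀ g : G, ∀ n ∈ N, θ (g * n * g⁻¹) = θ n
  hB : sSum p N θ ≠ 0

/-- an extension of `θ` to `H` which is principal on every cyclic layer `N⟨c⟩`, `c ∈ H` -/
def GoodC (p : ℕ) (N : Subgroup G) (θ : G → ℂ) (H : Subgroup G) (f : G → ℂ) : Prop :=
  IsExt N θ H f ∧ ∀ c ∈ H, sSum p (N ⊔ Subgroup.zpowers c) f ≠ 0

open Classical in
/-- unnormalised inner product of two functions on `G` over the subgroup `J`:
`∑_{g ∈ J} f g * conj (f' g)`  (`= |J| * classInner (f|_J) (f'|_J)`, see `iSum_eq`) -/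
noncomputable def iSum (J : Subgroup G) (f f' : G → ℂ) : ℂ :=
  ∑ᶠ g : G, if g ∈ J then f g * (starRingEnd ℂ) (f' g) else 0

theorem iSum_eq [Finite G] (J : Subgroup G) [Fintype J] (f f' : G → ℂ) :
    iSum J f f' = (Nat.card J : ℂ) *
      Cfsg.classInner (fun y : J => f y) (fun y : J => f' y) := by
  classical
  have hJ : (Nat.card J : ℂ) ≠ 0 := by exact_mod_cast (Nat.card_pos (α := J)).ne'
  unfold Cfsg.classInner iSum
  rw [← mul_assoc, mul_inv_cancel₀ hJ, one_mul]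
  have h1 : (∑ᶠ g : G, if g ∈ J then f g * (starRingEnd ℂ) (f' g) else 0) =
      ∑ᶠ g ∈ (J : Set G), f g * (starRingEnd ℂ) (f' g) := by
    rw [finsum_mem_def]
    refine finsum_congr fun g => ?_
    by_cases hg : g ∈ J
    · rw [if_pos hg, Set.indicator_of_mem (show g ∈ (J : Set G) from hg)]
    · rw [if_neg hg, Set.indicator_of_notMem (show g ∉ (J : Set G) from hg)]
  rw [h1, ← finsum_set_coe_eq_finsum_mem (J : Set G)]
  exact finsum_eq_sum_of_fintype _

end Cfsg.Agent.Lib.H21.AP
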