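import Mathlib
import Cfsg.Prelude.Def_Blocks
import Cfsg.Agent.Lib.H21.AD.Defs
import Cfsg.Agent.Lib.H28.NT.Defs
import Cfsg.Agent.Lib.H21.AP.Defs
import Cfsg.Agent.Lib.H23.BlockLocal
import Cfsg.Agent.Lib.H23.ADCC
import Cfsg.Agent.Lib.H10.ADROOT
import Cfsg.Agent.Lib.H5.ADKEY
import Cfsg.Agent.Lib.H23.ExtDet
import Cfsg.Agent.Lib.H23.ExtGeneral
import Cfsg.Agent.Lib.L0.CharOps
import Cfsg.Agent.Lib.H9.ADCONJ
import Cfsg.Agent.Lib.H9.NTCONJ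
import Cfsg.Agent.Lib.H14.NTSOLFCore
import Cfsg.Agent.Lib.H14.NTHERCore

/-!
# S4551: the S4892 pieces (KEYF), (CONJA), (SOLF), (HER) under the weaker hypotheses `HypA` (helper21)

Mechanical copies of `H28.NT.keyF` (helper28), `H9.NT.goodA_conj` (helper9), `H14.NT.exists_goodA_core`,
`H14.NT.goodA_zpowers_core` (helper14) with `Hyp` replaced by `HypA` (none of them uses `hdeg`, `hdet`).
-/

set_option autoImplicit false
open Cfsg.Agent.Lib.H21.AD Cfsg.Agent.Lib.H28.NT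
open Cfsg.Agent.Lib.H23.AD (cc)
open Cfsg.Agent.Lib.H10.AD (root_eq_one)
open Cfsg.Agent.Lib.H5.AD (pow_relIndex_mem)

namespace Cfsg.Agent.Lib.H21.AP

variable {G : Type*} [Group G] [Finite G] {p : ℕ} {M : Ideal Cfsg.AlgInt} {N Q : Subgroup G} {θ : G → ℂ}

/-- restriction of `θ` to `N.subgroupOf J` is irreducible -/
theorem irr_subgroupOf' (h : HypA p M N Q θ) (J : Subgroup G) (hNJ : N ≤ J) (f : G → ℂ)
    (hf : ∀ n ∈ N, f n = θ n) :
    Cfsg.IsIrrCharacter (N.subgroupOf J) (fun n : N.subgroupOf J => f ((n : J) : G)) := by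
  set e := Subgroup.subgroupOfEquivOfLe hNJ with he
  have h4 : (fun n : N.subgroupOf J => f ((n : J) : G)) = (fun n : N => θ n) ∘ e := by
    funext n
    have hn : ((n : J) : G) ∈ N := Subgroup.mem_subgroupOf.1 n.2
    rw [Function.comp_apply, hf _ hn]
    rfl
  rw [h4]
  exact Cfsg.Agent.Lib.L0.isIrrCharacter_comp_of_surjective e.toMonoidHom e.surjective h.hirr

/-- (KEYF) base-free KEY -/
theorem keyF' [N.Normal] (h : HypA p M N Q θ) (J₁ J₂ : Subgroup G) (hN1 : N ≤ J₁) (h12 : J₁ ≤ J₂)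
    (hp2 : ¬ p ∣ N.relIndex J₂) (f₁ f₂ : G → ℂ) (h₁ : GoodA p N θ J₁ f₁) (h₂ : GoodA p N θ J₂ f₂) :
    ∀ g ∈ J₁, f₁ g = f₂ g := by
  classical
  intro g hg
  have hM := h.hM
  haveI : M.IsPrime := Cfsg.Agent.Lib.H23.isPrime_of_isPModular hM
  have hpp : p.Prime := h.hp
  have hN2 : N ≤ J₂ := hN1.trans h12
  -- index computations
  set m := N.relIndex J₁ with hm
  have hidx1 : m ∣ N.relIndex J₂ := by
    have := Subgroup.relIndex_mul_relIndex N J₁ J₂ hN1 h12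
    exact Dvd.intro _ this
  have hp1 : ¬ p ∣ m := fun hd => hp2 (hd.trans hidx1)
  have hm0 : 0 < m := Nat.pos_of_ne_zero (fun h0 => hp1 (h0 ▸ dvd_zero p))
  have hQ1 : ¬ p ∣ Q.relIndex J₁ := by
    rw [← Subgroup.relIndex_mul_relIndex Q N J₁ h.hQN hN1]
    intro hd
    rcases hpp.dvd_mul.1 hd with hd | hd
    · exact h.hQ hd
    · exact hp1 hd
  have hQ2 : ¬ p ∣ Q.relIndex J₂ := by
    rw [← Subgroup.relIndex_mul_relIndex Q N J₂ h.hQN hN2]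
    intro hd
    rcases hpp.dvd_mul.1 hd with hd | hd
    · exact h.hQ hd
    · exact hp2 hd
  -- Gallagher in `↥J₁`
  haveI : Fintype J₁ := Fintype.ofFinite _
  have hη : Cfsg.IsIrrCharacter J₁ (fun y : J₁ => f₁ y) := h₁.1.1
  have hηN := irr_subgroupOf' h J₁ hN1 f₁ h₁.1.2
  have hχ'c : Cfsg.IsCharacter J₁ (fun y : J₁ => f₂ y) := by
    have := Cfsg.Agent.Lib.L0.isCharacter_comp (Subgroup.inclusion h12)
      (Cfsg.Agent.Lib.L0.isCharacter_of_irr h₂.1.1)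
    exact this
  have hχ' : Cfsg.IsIrrCharacter J₁ (fun y : J₁ => f₂ y) :=
    Cfsg.Agent.Lib.H23.isIrrCharacter_of_restrict_irr (N.subgroupOf J₁) hχ'c
      (irr_subgroupOf' h J₁ hN1 f₂ h₂.1.2)
  obtain ⟨β, hβN, hβ⟩ := Cfsg.Agent.Lib.H23.exists_hom_of_restrict_eq (N.subgroupOf J₁) hη hχ' hηN
    (fun n => by
      have hn : ((n : J₁) : G) ∈ N := Subgroup.mem_subgroupOf.1 n.2
      show f₂ ((n : J₁) : G) = f₁ ((n : J₁) : G)
      rw [h₂.1.2 _ hn, h₁.1.2 _ hn])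
  have hβv : ∀ y : J₁, f₂ y = f₁ y * ((β y : ℂˣ) : ℂ) := by
    intro y
    have := congrFun hβ y
    rw [Pi.mul_apply, Cfsg.Agent.Lib.H23.homToFun_apply] at this
    exact this
  -- decompose `g`
  obtain ⟨n, hn, z, hz, rfl⟩ := h.hcov J₁ hN1 hp1 g hg
  have hz1 : z ∈ J₁ := by
    have : z = n⁻¹ * (n * z) := by group
    rw [this]
    exact J₁.mul_mem (J₁.inv_mem (hN1 hn)) hg
  have hz2 : z ∈ J₂ := h12 hz1
  have hβn : β ⟨n, hN1 hn⟩ = 1 := hβN ⟨⟨n, hN1 hn⟩, Subgroup.mem_subgroupOf.2 hn⟩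
  -- the two central character congruences
  have c1 := cc hM J₁ f₁ h₁.1.1 h₁.2 Q (h.hQN.trans hN1) hQ1 z hz1 hz
  have c2 := cc hM J₂ f₂ h₂.1.1 h₂.2 Q (h.hQN.trans hN2) hQ2 z hz2 hz
  -- the root of unity
  set ζ : ℂ := ((β ⟨z, hz1⟩ : ℂˣ) : ℂ) with hζ
  have hζm : ζ ^ m = 1 := by
    have hzm : z ^ m ∈ N := pow_relIndex_mem N J₁ hz1
    have h1 : β (⟨z, hz1⟩ ^ m) = 1 :=
      hβN ⟨⟨z, hz1⟩ ^ m, Subgroup.mem_subgroupOf.2 (by simpa using hzm)⟩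
    rw [map_pow] at h1
    rw [hζ, ← Units.val_pow_eq_pow_val, h1, Units.val_one]
  have hζint : IsIntegral ℤ ζ := IsIntegral.of_pow hm0 (by rw [hζm]; exact isIntegral_one)
  have hζloc : Cfsg.MemLocalRing M ζ :=
    Cfsg.Agent.Lib.H23.mem_localRing.1 (Cfsg.Agent.Lib.H23.isIntegral_mem_localRing hζint)
  have h21 : f₂ 1 = f₁ 1 := by rw [h₂.1.2 1 N.one_mem, h₁.1.2 1 N.one_mem]
  have h2z : f₂ z = f₁ z * ζ := hβv ⟨z, hz1⟩
  have hdiff : ζ - 1 = (f₂ z / f₂ 1 - 1) - ζ * (f₁ z / f₁ 1 - 1) := by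
    rw [h2z, h21]; ring
  have hmem : Cfsg.MemLocalIdeal M (ζ - 1) := by
    rw [hdiff]
    exact Cfsg.Agent.Lib.H23.memLocalIdeal_sub c2
      (Cfsg.Agent.Lib.H23.memLocalIdeal_mul_left hζloc c1)
  have h1 := root_eq_one hM ζ m hp1 hζm hmem
  have hfin := hβv ⟨n * z, hg⟩
  have hsplit : (⟨n * z, hg⟩ : J₁) = ⟨n, hN1 hn⟩ * ⟨z, hz1⟩ := rfl
  rw [hsplit, map_mul, hβn, one_mul] at hfin
  rw [show ((β ⟨z, hz1⟩ : ℂˣ) : ℂ) = ζ from rfl, h1, mul_one] at hfin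
  exact hfin.symm

set_option linter.unusedVariables false in
set_option linter.unusedSectionVars false in
/-- (CONJA) conjugating a principal extension -/
theorem goodA_conj' [N.Normal] (h : HypA p M N Q θ) (J : Subgroup G) (hNJ : N ≤ J) (f : G → ℂ)
    (hf : GoodA p N θ J f) (t : G) :
    GoodA p N θ (J.map (MulAut.conj t).toMonoidHom) (fun x => f (t⁻¹ * x * t)) := by
  obtain ⟨hext, hsum⟩ := hf
  refine ⟨Cfsg.Agent.Lib.H9.NT.isExt_conj h.hinv J f hext t, ?_⟩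
  rw [Cfsg.Agent.Lib.H9.AD.sSum_conj]
  have : (fun g => f (t⁻¹ * (t * g * t⁻¹) * t)) = f := by
    funext g
    congr 1
    group
  rw [this]
  exact hsum

/-- (SOLF) with (KEYF) and (CONJA) as hypotheses. -/
theorem exists_goodA_core' [N.Normal] (h : HypA p M N Q θ)
    (hkey : ∀ (J₁ J₂ : Subgroup G), N ≤ J₁ → J₁ ≤ J₂ → ¬ p ∣ N.relIndex J₂ →
      ∀ f₁ f₂ : G → ℂ, GoodA p N θ J₁ f₁ → GoodA p N θ J₂ f₂ → ∀ g ∈ J₁, f₁ g = f₂ g)
    (hconj : ∀ (J : Subgroup G), N ≤ J → ∀ f : G → ℂ, GoodA p N θ J f → ∀ t : G,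
      GoodA p N θ (J.map (MulAut.conj t).toMonoidHom) (fun x => f (t⁻¹ * x * t))) :
    ∀ (n : ℕ) (J : Subgroup G), Nat.card J = n → N ≤ J → ¬ p ∣ N.relIndex J →
      Group.IsSolvable (↥J ⧸ N.subgroupOf J) → ∃ f : G → ℂ, GoodA p N θ J f := by
  intro n
  induction n using Nat.strong_induction_on with
  | _ n ih =>
    intro J hcard hNJ hp hsol
    by_cases hJN : J ≤ N
    · -- `J = N`
      have hJ : J = N := le_antisymm hJN hNJ
      subst hJ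
      exact ⟨θ, ⟨h.hirr, fun _ _ => rfl⟩, h.hB⟩
    · obtain ⟨J₁, hN1, h1J, hnorm, hprime, hab, hsol₁⟩ :=
        Cfsg.Agent.Lib.H2.AD.exists_sub N J hNJ hJN hsol
      have hmul : N.relIndex J₁ * J₁.relIndex J = N.relIndex J :=
        Subgroup.relIndex_mul_relIndex N J₁ J hN1 h1J
      have hp₁ : ¬ p ∣ N.relIndex J₁ := fun h => hp (hmul ▸ Dvd.dvd.mul_right h _)
      have hlt : Nat.card J₁ < Nat.card J := by
        have h1 : J₁.relIndex J * Nat.card J₁ = Nat.card J := by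
          have := Subgroup.relIndex_mul_relIndex ⊥ J₁ J bot_le h1J
          rw [Subgroup.relIndex_bot_left, Subgroup.relIndex_bot_left] at this
          rw [mul_comm]
          exact this
        have h2 : 2 ≤ J₁.relIndex J := hprime.two_le
        have h3 : 0 < Nat.card J₁ := Nat.card_pos
        nlinarith
      obtain ⟨f₁, hgood₁⟩ := ih (Nat.card J₁) (hcard ▸ hlt) J₁ rfl hN1 hp₁ hsol₁
      -- `f₁` is `J`-invariant
      have hinv : ∀ t ∈ J, ∀ g ∈ J₁, f₁ (t⁻¹ * g * t) = f₁ g := by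
        intro t ht
        have hg := hconj J₁ hN1 f₁ hgood₁ t
        have hmap : J₁.map (MulAut.conj t).toMonoidHom = J₁ := by
          ext x
          constructor
          · rintro ⟨y, hy, rfl⟩
            exact hnorm t ht y hy
          · intro hx
            refine ⟨t⁻¹ * x * t, ?_, ?_⟩
            · have := hnorm t⁻¹ (J.inv_mem ht) x hx
              simpa using this
            · simp [MulAut.conj_apply, mul_assoc]
        rw [hmap] at hg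
        exact hkey J₁ J₁ hN1 le_rfl hp₁ _ f₁ hg hgood₁
      -- extend to `J`
      obtain ⟨f', hf'irr, hf'1⟩ := Cfsg.Agent.Lib.H14.NT.exists_char_ext J₁ J h1J hnorm hprime f₁ hgood₁.1.1 hinv
      -- correct by a twist of `J / J₁`
      have hf : sSum p J₁ f' ≠ 0 := by
        rw [Cfsg.Agent.Lib.H2.AD.sSum_congr p J₁ f' f₁ hf'1]
        exact hgood₁.2
      obtain ⟨μ, hμ, hμs⟩ := Cfsg.Agent.Lib.H28.AD.ab p J₁ J h1J hnorm hab f' hf
      refine ⟨fun g => f' g * μ g, ⟨Cfsg.Agent.Lib.H14.NT.isIrr_mul_twist J₁ J h1J f' μ hf'irr hμ, ?_⟩, hμs⟩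
      intro x hx
      show f' x * μ x = θ x
      rw [hf'1 x (hN1 hx), hμ.2 x (hN1 hx), mul_one]
      exact hgood₁.1.2 x hx

/-- (SOLF) base-free SOL (Alperin): a principal extension exists on every `J ⊇ N` with `J/N` a
solvable `p'`-group. -/
theorem exists_goodA' [N.Normal] (h : HypA p M N Q θ) (J : Subgroup G) (hNJ : N ≤ J)
    (hpJ : ¬ p ∣ N.relIndex J) (hsol : Group.IsSolvable (↥J ⧸ N.subgroupOf J)) :
    ∃ f : G → ℂ, GoodA p N θ J f :=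
  exists_goodA_core' h
    (fun J₁ J₂ hN1 h12 hp2 f₁ f₂ h₁ h₂ => keyF' h J₁ J₂ hN1 h12 hp2 f₁ f₂ h₁ h₂)
    (fun J' hNJ' f hf t => goodA_conj' h J' hNJ' f hf t)
    (Nat.card J) J rfl hNJ hpJ hsol

set_option linter.unusedVariables false in
/-- (HER) with (KEYF) and (SOLF) as hypotheses -/
theorem goodA_zpowers_core' [N.Normal] (h : HypA p M N Q θ)
    (hkey : ∀ (J₁ J₂ : Subgroup G), N ≤ J₁ → J₁ ≤ J₂ → ¬ p ∣ N.relIndex J₂ →
      ∀ f₁ f₂ : G → ℂ, GoodA p N θ J₁ f₁ → GoodA p N θ J₂ f₂ → ∀ g ∈ J₁, f₁ g = f₂ g)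
    (hsolf : ∀ J : Subgroup G, N ≤ J → ¬ p ∣ N.relIndex J →
      Group.IsSolvable (↥J ⧸ N.subgroupOf J) → ∃ f : G → ℂ, GoodA p N θ J f)
    (J : Subgroup G) (hNJ : N ≤ J) (hpJ : ¬ p ∣ N.relIndex J) (f : G → ℂ)
    (hf : GoodA p N θ J f) (c : G) (hc : c ∈ J) :
    sSum p (N ⊔ Subgroup.zpowers c) f ≠ 0 := by
  have hN1 : N ≤ N ⊔ Subgroup.zpowers c := le_sup_left
  have h1J : N ⊔ Subgroup.zpowers c ≤ J :=
    sup_le hNJ ((Subgroup.zpowers_le).2 hc)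
  have hmul : N.relIndex (N ⊔ Subgroup.zpowers c) * (N ⊔ Subgroup.zpowers c).relIndex J
      = N.relIndex J := Subgroup.relIndex_mul_relIndex N _ J hN1 h1J
  have hp₁ : ¬ p ∣ N.relIndex (N ⊔ Subgroup.zpowers c) :=
    fun hd => hpJ (hmul ▸ Dvd.dvd.mul_right hd _)
  obtain ⟨f₁, hf₁⟩ := hsolf _ hN1 hp₁ (Cfsg.Agent.Lib.H14.NT.isSolvable_sup_zpowers_quotient N c)
  have heq := hkey _ J hN1 h1J hpJ f₁ f hf₁ hf
  rw [Cfsg.Agent.Lib.H2.AD.sSum_congr p _ f f₁ (fun g hg => (heq g hg).symm)]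
  exact hf₁.2

/-- (HER) a principal extension on `J` (`p ∤ |J : N|`) is principal on every `N⟨c⟩`, `c ∈ J`. -/
theorem goodA_zpowers' [N.Normal] (h : HypA p M N Q θ) (J : Subgroup G) (hNJ : N ≤ J)
    (hpJ : ¬ p ∣ N.relIndex J) (f : G → ℂ) (hf : GoodA p N θ J f) (c : G) (hc : c ∈ J) :
    sSum p (N ⊔ Subgroup.zpowers c) f ≠ 0 :=
  goodA_zpowers_core' h
    (fun J₁ J₂ hN1 h12 hp2 f₁ f₂ h₁ h₂ => keyF' h J₁ J₂ hN1 h12 hp2 f₁ f₂ h₁ h₂)
    (fun J' hNJ' hpJ' hsol' => exists_goodA' h J' hNJ' hpJ' hsol')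
    J hNJ hpJ f hf c hc

end Cfsg.Agent.Lib.H21.AP
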